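import Mathlib
import Cfsg.Agent.Lib.FS.Defs
import Cfsg.Agent.Lib.FS6.HxT
import Cfsg.Agent.Lib.FS6.Fb
import Cfsg.Agent.Lib.FS6.Mod
import Cfsg.Agent.Lib.FS6.Mu
import Cfsg.Agent.Lib.FS6.CW
import Cfsg.Agent.Lib.FS6.Alg
import Cfsg.Agent.Lib.FS6.Fa

/-! Finite Moufang hexagons: the identification. -/

set_option autoImplicit false

open scoped commutatorElement

namespace FS

open H63.St Cfsg Tits MulAction

theorem lie6 {hn : Ok 6} {G X : Type*} [Group G] [Finite G] [IsSimpleGroup G] [Finite X]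
    [MulAction G X] {p : ℕ} [Fact p.Prime] (T : Dat hn G X p) : Lie G := by
  obtain ⟨W, L, hW⟩ := H80.FS6.exists_long T.E T.faith T.pg
  obtain ⟨F, _, _, ⟨B⟩⟩ := H73.FS6.exists_hb L
  obtain ⟨J, _, _, _, ⟨Y⟩⟩ := H73.FS6.exists_hy L B
  obtain ⟨Z⟩ := H73.FS6.exists_hz Y
  obtain ⟨E, _, _, ι, φ, h⟩ := Z.S.exists_is Z.S.finrank_le
  obtain ⟨H, hH⟩ := Z.exists_hex h
  exact H80.FS6.hex_lie H (by rw [H73.FW.Hex.Gp, hH, hW, T.top])

end FS
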